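import Groth.Agent.CdOneLib.CharP

/-!
# Cohomology of `ℤ/p` from that of the additive group
-/

set_option autoImplicit false
universe u
open CategoryTheory AlgebraicGeometry Opposite CategoryTheory.Abelian

noncomputable section

namespace AsCohLib

/-- Artin–Schreier: vanishing for `ℤ/p` in degree `q + 1` from two vanishings for `Ga`. -/
theorem subsingleton_const {X : Scheme.{u}} (p : ℕ) [Fact p.Prime] (h0 : (p : Γ(X, ⊤)) = 0) (q : ℕ)
    (h2 : Subsingleton (EtCoh.H X (EtCoh.Ga X) (q + 1))) (h3 : Subsingleton (EtCoh.H X (EtCoh.Ga X) q)) :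
    Subsingleton (EtCoh.H X (EtCoh.const X (ZMod p)) (q + 1)) := by
  obtain ⟨T, hT, e1, e2, e3⟩ := CdOneLib.kernel_artinSchreier (X := X) p h0
  have k2 : Subsingleton (EtCoh.H X T.X₂ (q + 1)) := e2 ▸ h2
  have k3 : Subsingleton (EtCoh.H X T.X₃ q) := e3 ▸ h3
  have k1 : Subsingleton (EtCoh.H X T.X₁ (q + 1)) := by
    refine subsingleton_of_forall_eq 0 fun w => ?_
    obtain ⟨y, hy⟩ := Ext.covariant_sequence_exact₁ _ hT (w : Ext.{u + 1} _ T.X₁ (q + 1))
      (k2.elim (Ext.comp (w : Ext.{u + 1} _ T.X₁ (q + 1)) (Ext.mk₀ T.f) (add_zero (q + 1)) : EtCoh.H _ T.X₂ (q + 1)) 0)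
      (n₀ := q) rfl
    rw [← hy, k3.elim (y : EtCoh.H _ T.X₃ q) 0, Ext.zero_comp]
  exact e1 ▸ k1

end AsCohLib
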