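import Groth.Agent.AsCohLib.Main

/-!
# Order bound
-/

set_option autoImplicit false
set_option linter.unusedSectionVars false
set_option linter.style.haveILetI false
set_option backward.isDefEq.respectTransparency false
set_option backward.isDefEq.respectTransparency.types false
set_option maxHeartbeats 1000000

universe u

open CategoryTheory CategoryTheory.Limits CategoryTheory.Abelian AlgebraicGeometry Opposite TopologicalSpace

noncomputable section

namespace AsCohLib

/-- A `p`-linear map has at most `p ^ dim` fixed vectors. -/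
theorem card_fixed_le {k : Type*} [Field k] (p : ℕ) [hp : Fact p.Prime] {V : Type*} [AddCommGroup V] [Module k V]
    [Module.Finite k V] (Φ : V →+ V) (hΦ : ∀ (c : k) (v : V), Φ (c • v) = c ^ p • Φ v) :
    Nat.card {v : V | Φ v = v} ≤ p ^ Module.finrank k V := by
  classical
  obtain ⟨b, hbs, hspan, hli⟩ := exists_linearIndependent k {v : V | Φ v = v}
  haveI : Finite b := hli.finite
  haveI := Fintype.ofFinite b
  let F : Finset k := (Polynomial.X ^ p - Polynomial.X : Polynomial k).roots.toFinset
  have hFc : F.card ≤ p := le_trans (Multiset.toFinset_card_le _) (le_trans (Polynomial.card_roots' _)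
    (FiniteField.X_pow_card_sub_X_natDegree_eq k hp.out.one_lt).le)
  have hmem : ∀ c : k, c ^ p = c → c ∈ F := fun c hc => by
    simp only [F, Multiset.mem_toFinset, Polynomial.mem_roots (FiniteField.X_pow_card_sub_X_ne_zero k hp.out.one_lt)]
    simp only [Polynomial.IsRoot, Polynomial.eval_sub, Polynomial.eval_pow, Polynomial.eval_X]
    exact sub_eq_zero.2 hc
  have key : ∀ v : {v : V | Φ v = v}, ∃ c : b → F, ∑ i, (c i : k) • (i : V) = v.1 := by
    rintro ⟨v, hv⟩
    have hvb : v ∈ Submodule.span k (Set.range ((↑) : b → V)) := by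
      rw [Subtype.range_coe, hspan]
      exact Submodule.subset_span hv
    obtain ⟨c, hc⟩ := (Submodule.mem_span_range_iff_exists_fun k).1 hvb
    refine ⟨fun i => ⟨c i, hmem _ ?_⟩, hc⟩
    have h : ∑ j, c j ^ p • (j : V) = ∑ j, c j • (j : V) := by
      rw [hc]
      refine Eq.trans ?_ hv
      rw [← hc, map_sum]
      refine Finset.sum_congr rfl fun j _ => ?_
      rw [hΦ]
      exact congrArg _ (hbs j.2).symm
    have := Fintype.linearIndependent_iff.1 hli (fun j => c j ^ p - c j) (by
      simp only [sub_smul, Finset.sum_sub_distrib]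
      exact sub_eq_zero.2 h) i
    exact sub_eq_zero.1 this
  choose c hc using key
  have hle := Nat.card_le_card_of_injective c fun v w h => Subtype.ext (by rw [← hc v, ← hc w, h])
  rw [Nat.card_fun, Nat.card_eq_fintype_card (α := F), Fintype.card_coe] at hle
  refine hle.trans (le_trans (Nat.pow_le_pow_left hFc _) (Nat.pow_le_pow_right hp.out.pos ?_))
  rw [Nat.card_eq_fintype_card]
  exact hli.fintype_card_le_finrank

variable {X : Scheme.{u}} {k : Type u} [Field k] [IsSepClosed k] (p : ℕ) [hp : Fact p.Prime] [CharP k p]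
  [X.Over (Spec (CommRingCat.of k))] [IsProper (X ↘ Spec (CommRingCat.of k))]

/-- At most `p ^ dim H^q(O)` classes. -/
theorem card_H_le (q : ℕ) : Nat.card (EtCoh.H X (EtCoh.const X (ZMod p)) q) ≤
    p ^ Module.finrank k (Coh.HH X (Coh.structureModule X) q) := by
  haveI : EtZar.ZarCont X := EtZarLib.zarCont X
  let f := X ↘ Spec (CommRingCat.of k)
  have h0 := natCast_zero p f
  obtain ⟨φ, w₀, hT⟩ := CdOneLib.kernel_artinSchreier_seq (X := X) p h0
  obtain ⟨e, he⟩ := exists_equiv_as p h0 q
  haveI : Module.Finite k (Coh.HH X (Coh.structureModule X) q) :=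
    CurvLib.finite_HH (DevissLib.isCoh_structureModule X) q
  have hlin : ∀ (c : k) (v : Coh.HH X (Coh.structureModule X) q),
      Sheaf.H.map (frobZ p h0) q (c • v) = c ^ p • Sheaf.H.map (frobZ p h0) q v := fun c v => by
    show Sheaf.H.map (frobZ p h0) q (Sheaf.H.map (Coh.smulAb _ (Coh.toGlobal f c)) q v) =
      Sheaf.H.map (Coh.smulAb _ (Coh.toGlobal f (c ^ p))) q (Sheaf.H.map (frobZ p h0) q v)
    rw [map_pow, ← Sheaf.H.map_comp_apply, ← Sheaf.H.map_comp_apply, smul_frobZ]
  have hinj : Function.Injective (Sheaf.H.map φ q) := by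
    refine (injective_iff_map_eq_zero _).2 fun (w : Ext.{u + 1} _ _ q) hw => ?_
    cases q with
    | zero =>
      haveI := hT.mono_f
      obtain ⟨g, rfl⟩ := (Ext.addEquiv₀.symm.surjective w)
      have hg : g ≫ φ = 0 := Ext.addEquiv₀.symm.injective (by
        rw [map_zero]
        exact (Ext.mk₀_comp_mk₀ g φ).symm.trans hw)
      rw [show g = 0 from (cancel_mono φ).1 (hg.trans zero_comp.symm), map_zero]
    | succ r =>
      obtain ⟨y, hy⟩ := Ext.covariant_sequence_exact₁ _ hT w hw (n₀ := r) rfl
      obtain ⟨z, hz⟩ := surjective_as p h0 f r y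
      rw [← hy, ← hz]
      exact (Ext.comp_assoc_of_second_deg_zero _ _ _ _).trans (by rw [hT.comp_extClass, Ext.comp_zero])
  refine le_trans ?_ (card_fixed_le p (Sheaf.H.map (frobZ p h0) q) hlin)
  haveI : Finite {v : Coh.HH X (Coh.structureModule X) q | Sheaf.H.map (frobZ p h0) q v = v} :=
    (finite_fixed p (Sheaf.H.map (frobZ p h0) q) hlin).to_subtype
  refine Nat.card_le_card_of_injective (fun x => (⟨e (Sheaf.H.map φ q x), ?_⟩ :
    {v : Coh.HH X (Coh.structureModule X) q | Sheaf.H.map (frobZ p h0) q v = v})) fun a b hab => hinj (e.injective (congrArg Subtype.val hab))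
  show Sheaf.H.map (asZ p h0 + 𝟙 _) q (e (Sheaf.H.map φ q x)) = _
  rw [Sheaf.H.map_add_apply, Sheaf.H.map_id_apply, ← he, ← Sheaf.H.map_comp_apply, w₀]
  rw [show Sheaf.H.map (0 : EtCoh.const X (ZMod p) ⟶ EtCoh.Ga X) q x = 0 from by
    show Ext.comp x (Ext.mk₀ 0) (add_zero q) = 0
    rw [Ext.mk₀_zero, Ext.comp_zero], map_zero, zero_add]

end AsCohLib
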