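import Mathlib.FieldTheory.IsSepClosed
import Mathlib.LinearAlgebra.Dimension.Finite
import Mathlib.RingTheory.Finiteness.Basic

/-!
# Surjectivity of `Φ - 1` for `p`-linear maps over separably closed fields
-/

set_option autoImplicit false

open Polynomial

noncomputable section

namespace AsCohLib

variable {k : Type*} [Field k] (p : ℕ) (a : ℕ → k)

/-- The coefficients of a preimage, as polynomials in the last one. -/
def langPoly : ℕ → k[X]
  | 0 => C (a 0) * X ^ p - 1
  | i + 1 => langPoly i ^ p + C (a (i + 1)) * X ^ p

theorem derivative_langPoly [CharP k p] : ∀ i, derivative (langPoly p a i) = 0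
  | 0 => by simp [langPoly, derivative_X_pow]
  | i + 1 => by simp [langPoly, derivative_X_pow, derivative_pow]

theorem exists_root_langPoly [IsSepClosed k] [CharP k p] (m : ℕ) : ∃ T : k, (langPoly p a m).eval T = T := by
  have hd : derivative (langPoly p a m - X) = -1 := by rw [derivative_sub, derivative_langPoly, derivative_X, zero_sub]
  have hdeg : (langPoly p a m - X).degree ≠ 0 := fun h => by
    rw [eq_C_of_degree_eq_zero h, derivative_C] at hd
    exact one_ne_zero (neg_eq_zero.1 hd.symm)
  obtain ⟨T, hT⟩ := IsSepClosed.exists_root _ hdeg (by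
    rw [separable_def, hd]
    exact (isCoprime_one_right).neg_right)
  refine ⟨T, sub_eq_zero.1 ?_⟩
  simpa using hT

/-- Over a separably closed field `Φ - 1` is surjective for a `p`-linear `Φ`. -/
theorem surjective_sub_self [IsSepClosed k] [CharP k p] {V : Type*} [AddCommGroup V] [Module k V] [Module.Finite k V]
    (Φ : V →+ V) (hΦ : ∀ (c : k) (v : V), Φ (c • v) = c ^ p • Φ v) :
    Function.Surjective fun v => Φ v - v := fun w => by
  let φ : ℕ → V := fun i => Φ^[i] w
  obtain ⟨n, hn⟩ := monotone_stabilizes_iff_noetherian.mpr (inferInstance : IsNoetherian k V)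
    ⟨fun n => Submodule.span k (φ '' (Finset.range n : Finset ℕ)),
      fun i j h => Submodule.span_mono (Set.image_mono (Finset.coe_subset.2 (Finset.range_mono h)))⟩
  have hmem : φ n ∈ Submodule.span k (φ '' (Finset.range n : Finset ℕ)) := by
    have h := hn (n + 1) (Nat.le_succ n)
    simp only [OrderHom.coe_mk] at h
    rw [h]
    exact Submodule.subset_span ⟨n, by simp, rfl⟩
  cases n with
  | zero =>
    refine ⟨0, ?_⟩
    simp only [Finset.range_zero, Finset.coe_empty, Set.image_empty, Submodule.span_empty, Submodule.mem_bot] at hmem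
    show Φ 0 - 0 = w
    rw [map_zero, sub_zero]
    exact hmem.symm
  | succ m =>
    obtain ⟨a, ha⟩ : ∃ a : ℕ → k, ∑ i ∈ Finset.range (m + 1), a i • φ i = φ (m + 1) := by
      classical
      have key : ∀ (s : Finset ℕ) (v : V), v ∈ Submodule.span k (φ '' s) → ∃ a : ℕ → k, ∑ i ∈ s, a i • φ i = v :=
        fun s v hv => (Submodule.mem_span_image_finset_iff_exists_fun k).1 hv |>.elim fun c hc =>
          ⟨fun i => if h : i ∈ s then c ⟨i, h⟩ else 0, by
            rw [← hc, ← Finset.sum_coe_sort]
            exact Finset.sum_congr rfl fun i _ => by simp [i.2]⟩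
      exact key _ _ hmem
    obtain ⟨T, hT⟩ := exists_root_langPoly p a m
    let c : ℕ → k := fun i => (langPoly p a i).eval T
    refine ⟨∑ i ∈ Finset.range (m + 1), c i • φ i, ?_⟩
    show Φ _ - _ = w
    have hs : ∀ i, Φ (c i • φ i) = c i ^ p • φ (i + 1) := fun i => by
      rw [hΦ]
      exact congrArg _ (Function.iterate_succ_apply' Φ i w).symm
    rw [map_sum, Finset.sum_congr rfl fun i _ => hs i, Finset.sum_range_succ, show c m = T from hT, ← ha,
      Finset.sum_range_succ' (fun i => a i • φ i), Finset.sum_range_succ' (fun i => c i • φ i), smul_add,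
      Finset.smul_sum]
    have h0 : c 0 = a 0 * T ^ p - 1 := by simp [c, langPoly]
    have h1 : ∀ i, c (i + 1) = c i ^ p + a (i + 1) * T ^ p := fun i => by simp [c, langPoly]
    simp only [h0, h1, smul_smul, add_smul, sub_smul, one_smul, Finset.sum_add_distrib, mul_comm (T ^ p)]
    show _ = φ 0
    abel

end AsCohLib
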