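import Groth.Agent.CdOneLib.CharP
import Groth.Agent.EtShLib.ArtinSchreier
import Groth.Agent.EtShLib.GaAffine
import Mathlib.RingTheory.LocalRing.Basic
import Mathlib.FieldTheory.Finite.Basic

/-!
# The Artin–Schreier sequence, with its second map named
-/

set_option autoImplicit false
set_option linter.unusedSectionVars false
set_option linter.style.haveILetI false
set_option backward.isDefEq.respectTransparency false
set_option backward.isDefEq.respectTransparency.types false
set_option synthInstance.maxHeartbeats 400000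
set_option maxHeartbeats 1000000

universe u

open CategoryTheory CategoryTheory.Limits CategoryTheory.Abelian AlgebraicGeometry Opposite
open Groth.Agent.EtShLib EtSliceLib EtTransferLib

noncomputable section

namespace CdOneLib

theorem kernel_artinSchreier_seq {X : Scheme.{u}} (p : ℕ) [hp : Fact p.Prime] (h0 : (p : Γ(X, ⊤)) = 0) :
    ∃ (φ : EtCoh.const X (ZMod p) ⟶ EtCoh.Ga X) (w : φ ≫ W4c5etcohweilstudent.artinSchreierEndo X p hp.out h0 = 0),
      (ShortComplex.mk φ (W4c5etcohweilstudent.artinSchreierEndo X p hp.out h0) w).ShortExact := by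
  classical
  let ψ := W4c5etcohweilstudent.artinSchreierEndo X p hp.out h0
  let t : ToType ((EtCoh.Ga X).obj.obj (op (EtCoh.top X))) := ULift.up (1 : Γ((EtCoh.top X).left, ⊤))
  have h0' : ∀ V : X.Etale, (p : Γ(V.left, ⊤)) = 0 := fun V => W4c5etcohweilstudent.natCast_eq_zero_etale p h0 V
  have htp : p • t = 0 := ULift.ext _ _ (by
    show p • (1 : Γ((EtCoh.top X).left, ⊤)) = 0
    rw [nsmul_one, h0'])
  obtain ⟨φ, hφ⟩ := exists_hom_of_torsion_section p (EtCoh.Ga X) t htp
  haveI : Mono φ := mono_of_torsion_section p φ t hφ htp fun Ω _ _ ξ c h => by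
    obtain ⟨V, g, v, -, he⟩ := (germ_eq_iff (A := AddCommGrpCat.{u + 1}) ξ (EtCoh.top X) c t 0).1
      (h.trans (map_zero _).symm)
    rw [map_zero] at he
    have h1 : g.left.appTop.hom (1 : Γ((EtCoh.top X).left, ⊤)) = 0 := congrArg ULift.down he
    rw [map_one] at h1
    haveI : Nonempty (⊤ : V.left.Opens) := ⟨⟨v.pt, trivial⟩⟩
    exact one_ne_zero h1
  have hw : φ ≫ ψ = 0 := by
    refine ((EtCore.constAdj X).homEquiv _ _).injective ?_
    haveI : (EtCore.gsec X).Additive := ⟨fun {X Y f g} => rfl⟩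
    rw [Adjunction.homEquiv_unit, Adjunction.homEquiv_unit, Functor.map_zero, comp_zero]
    ext ⟨a⟩
    have hu : ∀ m : ULift.{u + 1} (ZMod p), (EtCore.constAdj X).unit.app (AddCommGrpCat.of (ULift.{u + 1} (ZMod p))) m =
        cstUnit X (AddCommGrpCat.of (ULift.{u + 1} (ZMod p))) m := fun m => by
      simp [cstUnit, EtCore.constAdj, constantSheafAdj, constantPresheafAdj]
    simp only [ConcreteCategory.comp_apply]
    have ea : (⟨a⟩ : ULift.{u + 1} (ZMod p)) = a.val • (⟨1⟩ : ULift.{u + 1} (ZMod p)) :=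
      ULift.ext _ _ (by
        show a = a.val • (1 : ZMod p)
        rw [nsmul_one, ZMod.natCast_zmod_val])
    erw [hu]
    show ψ.hom.app (op (EtCoh.top X)) (φ.hom.app (op (EtCoh.top X)) (cstUnit X (AddCommGrpCat.of (ULift.{u + 1} (ZMod p))) ⟨a⟩)) = 0
    rw [ea, map_nsmul, map_nsmul, hφ]
    refine ULift.ext _ _ ?_
    show ((a.val • (1 : Γ((EtCoh.top X).left, ⊤))) ^ p - a.val • (1 : Γ((EtCoh.top X).left, ⊤))) = 0
    haveI : Fact p.Prime := hp
    rw [nsmul_one]
    rcases subsingleton_or_nontrivial Γ((EtCoh.top X).left, ⊤) with hs | hs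
    · exact Subsingleton.elim _ _
    · haveI : CharP Γ((EtCoh.top X).left, ⊤) p := (CharP.ringChar_of_prime_eq_zero hp.out (h0' (EtCoh.top X))) ▸ ringChar.charP _
      rw [← map_natCast (ZMod.castHom (dvd_refl p) Γ((EtCoh.top X).left, ⊤)) a.val, ← map_pow, ZMod.pow_card, sub_self]
  haveI : Epi ψ := epi_artinSchreier p hp.out h0
  refine ⟨φ, hw, { exact := ?_ }⟩
  refine (exact_iff_stalks _).2 fun Ω _ _ ξ => ?_
  rw [ShortComplex.ab_exact_iff]
  intro Q hQ
  obtain ⟨U, v, s, rfl⟩ := exists_germ (A := AddCommGrpCat.{u + 1}) ξ Q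
  change (stk (A := AddCommGrpCat.{u + 1}) ξ).map ψ (germ (A := AddCommGrpCat.{u + 1}) ξ (EtCoh.Ga X) U v s) = 0 at hQ
  rw [germ_natural_apply] at hQ
  obtain ⟨V, g, w, hw', he⟩ := (germ_eq_iff (A := AddCommGrpCat.{u + 1}) ξ U v _ 0).1 (hQ.trans (map_zero _).symm)
  rw [map_zero, ← NatTrans.naturality_apply] at he
  let s' := (EtCoh.Ga X).obj.map g.op s
  let r : Γ(V.left, ⊤) := s'.down
  have hr : r ^ p - r = 0 := congrArg ULift.down he
  let R := V.left.presheaf.stalk w.pt
  let ρ := V.left.presheaf.germ ⊤ w.pt trivial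
  haveI : CharP R p := by
    have : (p : R) = 0 := by rw [← map_natCast ρ.hom, h0', map_zero]
    exact (CharP.ringChar_of_prime_eq_zero hp.out this) ▸ ringChar.charP _
  obtain ⟨i, hi⟩ := exists_intCast_of_pow_eq p (ρ r) (by
    rw [← map_pow, sub_eq_zero.1 hr])
  obtain ⟨O', hO, i₁, i₂, hO'⟩ := TopCat.Presheaf.germ_eq V.left.presheaf w.pt (U := ⊤) (V := ⊤) trivial trivial r (i : Γ(V.left, ⊤)) (by
    show ρ r = ρ (i : Γ(V.left, ⊤))
    rw [map_natCast]
    exact hi)
  let O : V.left.Opens := O'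
  haveI : AlgebraicGeometry.Etale V.hom := V.prop
  let V' : X.Etale := MorphismProperty.Over.mk ⊤ (O.ι ≫ V.hom)
    (inferInstance : AlgebraicGeometry.Etale (O.ι ≫ V.hom))
  let g' : V' ⟶ V := MorphismProperty.Over.homMk O.ι rfl
  have hrange : Set.range w.hom.base ⊆ Set.range O.ι.base := by
    rintro _ ⟨y, rfl⟩
    rw [Scheme.Opens.range_ι, Subsingleton.elim y default]
    exact hO
  let w' : Fib ξ V' := Fib.mk (IsOpenImmersion.lift O.ι w.hom hrange) (by
    show _ ≫ O.ι ≫ V.hom = _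
    rw [IsOpenImmersion.lift_fac_assoc]
    exact w.w)
  have hg' : w'.map g' = w := Fib.ext ((Fib.map_hom g' w').trans (IsOpenImmersion.lift_fac O.ι w.hom hrange))
  have hsec : O.ι.appTop.hom r = O.ι.appTop.hom (i : Γ(V.left, ⊤)) := by
    have e : O.ι.appTop = V.left.presheaf.map (homOfLE (by simp : O.ι ''ᵁ ⊤ ≤ ⊤)).op := rfl
    have le : O.ι ''ᵁ ⊤ = O := O.ι_image_top
    rw [e]
    have h1 := congrArg (fun z => V.left.presheaf.map (homOfLE le.le).op z) hO'
    rw [← ConcreteCategory.comp_apply, ← ConcreteCategory.comp_apply, ← Functor.map_comp, ← Functor.map_comp] at h1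
    exact h1
  let top' : V' ⟶ EtCoh.top X := (EtCore.topIsTerminal X).from V'
  refine ⟨(stk (A := AddCommGrpCat.{u + 1}) ξ).map (𝟙 _)
    (germ (A := AddCommGrpCat.{u + 1}) ξ (EtCoh.const X (ZMod p)) (EtCoh.top X) (w'.map top')
      (i • cstUnit X (AddCommGrpCat.of (ULift.{u + 1} (ZMod p))) ⟨1⟩)), ?_⟩
  rw [CategoryTheory.Functor.map_id]
  show (stk (A := AddCommGrpCat.{u + 1}) ξ).map φ (germ (A := AddCommGrpCat.{u + 1}) ξ _ _ _ _) = _
  rw [germ_natural_apply, map_nsmul, hφ, ← germ_res_apply, ← hw', ← germ_res_apply, ← hg', ← germ_res_apply]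
  refine congrArg _ (ULift.ext _ _ ?_)
  show top'.left.appTop.hom (i • (1 : Γ((EtCoh.top X).left, ⊤))) = g'.left.appTop.hom r
  rw [nsmul_one, map_natCast]
  exact (hsec.trans (map_natCast O.ι.appTop.hom i)).symm

end CdOneLib
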