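import Groth.Agent.AsCohLib.Zar
import Groth.Agent.AsCohLib.Seq
import Groth.Agent.S0469
import Mathlib.LinearAlgebra.Basis.VectorSpace

/-!
# `ℤ/p`-cohomology of proper schemes in characteristic `p`
-/

set_option autoImplicit false
set_option linter.unusedSectionVars false
set_option linter.style.haveILetI false
set_option backward.isDefEq.respectTransparency false
set_option backward.isDefEq.respectTransparency.types false
set_option maxHeartbeats 1000000

universe u

open CategoryTheory CategoryTheory.Limits CategoryTheory.Abelian AlgebraicGeometry Opposite TopologicalSpace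

noncomputable section

namespace AsCohLib

/-- A `p`-linear map has finitely many fixed vectors. -/
theorem finite_fixed {k : Type*} [Field k] (p : ℕ) [hp : Fact p.Prime] {V : Type*} [AddCommGroup V] [Module k V]
    [Module.Finite k V] (Φ : V →+ V) (hΦ : ∀ (c : k) (v : V), Φ (c • v) = c ^ p • Φ v) :
    {v : V | Φ v = v}.Finite := by
  classical
  obtain ⟨b, hbs, hspan, hli⟩ := exists_linearIndependent k {v : V | Φ v = v}
  haveI : Finite b := hli.finite
  haveI := Fintype.ofFinite b
  let F : Set k := {c | c ^ p = c}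
  have hF : F.Finite := by
    refine Set.Finite.subset ((Polynomial.X ^ p - Polynomial.X : Polynomial k).roots.toFinset.finite_toSet) fun c hc => ?_
    simp only [Finset.mem_coe, Multiset.mem_toFinset, Polynomial.mem_roots (FiniteField.X_pow_card_sub_X_ne_zero k hp.out.one_lt)]
    simp only [Polynomial.IsRoot, Polynomial.eval_sub, Polynomial.eval_pow, Polynomial.eval_X]
    exact sub_eq_zero.2 hc
  refine Set.Finite.subset (Set.Finite.image (fun c : b → k => ∑ i, c i • (i : V)) (Set.Finite.pi fun _ : b => hF)) fun v hv => ?_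
  have hvb : v ∈ Submodule.span k (Set.range ((↑) : b → V)) := by
    rw [Subtype.range_coe, hspan]
    exact Submodule.subset_span hv
  obtain ⟨c, hc⟩ := (Submodule.mem_span_range_iff_exists_fun k).1 hvb
  refine ⟨c, fun i _ => ?_, hc⟩
  have h : ∑ j, c j ^ p • (j : V) = ∑ j, c j • (j : V) := by
    rw [hc]
    refine Eq.trans ?_ hv
    rw [← hc, map_sum]
    refine Finset.sum_congr rfl fun j _ => ?_
    rw [hΦ]
    exact congrArg _ (hbs j.2).symm
  have := Fintype.linearIndependent_iff.1 hli (fun j => c j ^ p - c j) (by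
    simp only [sub_smul, Finset.sum_sub_distrib]
    exact sub_eq_zero.2 h) i
  exact sub_eq_zero.1 this

variable {X : Scheme.{u}} {k : Type u} [Field k] [IsSepClosed k] (p : ℕ) [hp : Fact p.Prime] [CharP k p]
  (f : X ⟶ Spec (CommRingCat.of k)) [IsProper f]

include f in
theorem natCast_zero : (p : Γ(X, ⊤)) = 0 := by
  rw [← map_natCast ((Scheme.ΓSpecIso (CommRingCat.of k)).inv ≫ f.appTop).hom p, CharP.cast_eq_zero, map_zero]

include f in
/-- Vanishing above the dimension. -/
theorem subsingleton_above_dim (d : ℕ) (hd : topologicalKrullDim X ≤ d) (r : ℕ) (hr : d ≤ r) :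
    Subsingleton (EtCoh.H X (EtCoh.const X (ZMod p)) (r + 1)) := by
  haveI : EtZar.ZarCont X := EtZarLib.zarCont X
  haveI : CompactSpace X := QuasiCompact.compactSpace_of_compactSpace f
  haveI : QuasiSeparatedSpace X := quasiSeparatedSpace_of_quasiSeparated f
  haveI : SpectralSpace (X : Type u) := { }
  haveI : SpectralSpace X.toTopCat := ‹SpectralSpace (X : Type u)›
  have h0 := natCast_zero p f
  obtain ⟨φ, w₀, hT⟩ := CdOneLib.kernel_artinSchreier_seq (X := X) p h0
  have hGa : Subsingleton (EtCoh.H X (EtCoh.Ga X) (r + 1)) := by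
    haveI : Subsingleton (Coh.HH X (Coh.structureModule X) (r + 1)) :=
      Groth.Agent.S0469.result (X := X.toTopCat) d hd (Coh.toAb (Coh.structureModule X)) (r + 1) (by omega)
    exact (EtZarLib.nonempty_Ga_equiv X (r + 1)).some.injective.subsingleton
  refine subsingleton_of_forall_eq 0 fun (w : Ext.{u + 1} _ _ (r + 1)) => ?_
  obtain ⟨y, hy⟩ := Ext.covariant_sequence_exact₁ _ hT w
    (hGa.elim (Ext.comp w (Ext.mk₀ φ) (add_zero (r + 1)) : EtCoh.H _ (EtCoh.Ga X) (r + 1)) 0) (n₀ := r) rfl
  obtain ⟨z, hz⟩ := surjective_as p h0 f r y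
  rw [← hy, ← hz]
  exact (Ext.comp_assoc_of_second_deg_zero _ _ _ _).trans (by rw [hT.comp_extClass, Ext.comp_zero])

include f in
/-- Finiteness. -/
theorem finite_H (q : ℕ) : Finite (EtCoh.H X (EtCoh.const X (ZMod p)) q) := by
  haveI : EtZar.ZarCont X := EtZarLib.zarCont X
  have h0 := natCast_zero p f
  obtain ⟨φ, w₀, hT⟩ := CdOneLib.kernel_artinSchreier_seq (X := X) p h0
  obtain ⟨e, he⟩ := exists_equiv_as p h0 q
  letI : X.Over (Spec (CommRingCat.of k)) := ⟨f⟩
  haveI : IsProper (X ↘ Spec (CommRingCat.of k)) := ‹IsProper f›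
  haveI : Module.Finite k (Coh.HH X (Coh.structureModule X) q) :=
    CurvLib.finite_HH (DevissLib.isCoh_structureModule X) q
  have hlin : ∀ (c : k) (v : Coh.HH X (Coh.structureModule X) q),
      Sheaf.H.map (frobZ p h0) q (c • v) = c ^ p • Sheaf.H.map (frobZ p h0) q v := fun c v => by
    show Sheaf.H.map (frobZ p h0) q (Sheaf.H.map (Coh.smulAb _ (Coh.toGlobal f c)) q v) =
      Sheaf.H.map (Coh.smulAb _ (Coh.toGlobal f (c ^ p))) q (Sheaf.H.map (frobZ p h0) q v)
    rw [map_pow, ← Sheaf.H.map_comp_apply, ← Sheaf.H.map_comp_apply, smul_frobZ]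
  have hfix := finite_fixed p (Sheaf.H.map (frobZ p h0) q) hlin
  have hinj : Function.Injective (Sheaf.H.map φ q) := by
    refine (injective_iff_map_eq_zero _).2 fun (w : Ext.{u + 1} _ _ q) hw => ?_
    cases q with
    | zero =>
      haveI := hT.mono_f
      obtain ⟨g, rfl⟩ := (Ext.addEquiv₀.symm.surjective w)
      have hg : g ≫ φ = 0 := Ext.addEquiv₀.symm.injective (by
        rw [map_zero]
        exact (Ext.mk₀_comp_mk₀ g φ).symm.trans hw)
      rw [show g = 0 from (cancel_mono φ).1 (hg.trans zero_comp.symm), map_zero]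
    | succ r =>
      obtain ⟨y, hy⟩ := Ext.covariant_sequence_exact₁ _ hT w hw (n₀ := r) rfl
      obtain ⟨z, hz⟩ := surjective_as p h0 f r y
      rw [← hy, ← hz]
      exact (Ext.comp_assoc_of_second_deg_zero _ _ _ _).trans (by rw [hT.comp_extClass, Ext.comp_zero])
  haveI : Finite {v : Coh.HH X (Coh.structureModule X) q | Sheaf.H.map (frobZ p h0) q v = v} := hfix.to_subtype
  refine Finite.of_injective (fun x => (⟨e (Sheaf.H.map φ q x), ?_⟩ :
    {v : Coh.HH X (Coh.structureModule X) q | Sheaf.H.map (frobZ p h0) q v = v})) fun a b hab => hinj (e.injective (congrArg Subtype.val hab))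
  show Sheaf.H.map (asZ p h0 + 𝟙 _) q (e (Sheaf.H.map φ q x)) = _
  rw [Sheaf.H.map_add_apply, Sheaf.H.map_id_apply, ← he, ← Sheaf.H.map_comp_apply, w₀]
  rw [show Sheaf.H.map (0 : EtCoh.const X (ZMod p) ⟶ EtCoh.Ga X) q x = 0 from by
    show Ext.comp x (Ext.mk₀ 0) (add_zero q) = 0
    rw [Ext.mk₀_zero, Ext.comp_zero], map_zero, zero_add]

end AsCohLib
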