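import Groth.Agent.AsCohLib.Basic
import Groth.Agent.AsCohLib.Lang
import Groth.Agent.EtZarLib.Nat
import Groth.Agent.CurvLib.Euler
import Groth.Agent.DevissLib.ClosedImm

/-!
# The Artin–Schreier endomorphism on coherent cohomology
-/

set_option autoImplicit false
set_option linter.unusedSectionVars false
set_option linter.style.haveILetI false
set_option backward.isDefEq.respectTransparency false
set_option backward.isDefEq.respectTransparency.types false
set_option maxHeartbeats 1000000

universe u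

open CategoryTheory CategoryTheory.Limits CategoryTheory.Abelian AlgebraicGeometry Opposite TopologicalSpace
open Groth.Agent.EtShLib

noncomputable section

namespace AsCohLib

variable {X : Scheme.{u}} (p : ℕ) [hp : Fact p.Prime] (h0 : (p : Γ(X, ⊤)) = 0)

include h0 in
theorem natCast_open (U : (Opens X)ᵒᵖ) : (p : X.presheaf.obj U) = 0 := by
  rw [← map_natCast (X.presheaf.map (homOfLE (le_top (a := U.unop))).op).hom p, h0, map_zero]

/-- The Artin–Schreier endomorphism on the structure sheaf. -/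
def asZ : Coh.toAb (Coh.structureModule X) ⟶ Coh.toAb (Coh.structureModule X) :=
  ⟨{ app := fun U => AddCommGrpCat.ofHom (W4c5etcohweilstudent.asHom (X.presheaf.obj U) p hp.out (natCast_open p h0 U))
     naturality := fun U V g => ConcreteCategory.hom_ext _ _ fun x =>
      (W4c5etcohweilstudent.ringHom_comp_asHom (X.presheaf.map g).hom p hp.out (natCast_open p h0 U) (natCast_open p h0 V) x).symm }⟩

/-- The `p`-th power map on the structure sheaf. -/
def frobZ : Coh.toAb (Coh.structureModule X) ⟶ Coh.toAb (Coh.structureModule X) := asZ p h0 + 𝟙 _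

theorem smul_frobZ (r : Coh.Γtop X) :
    Coh.smulAb (Coh.structureModule X) r ≫ frobZ p h0 = frobZ p h0 ≫ Coh.smulAb (Coh.structureModule X) (r ^ p) := by
  refine ObjectProperty.hom_ext _ (NatTrans.ext (funext fun U => ConcreteCategory.hom_ext _ _ fun (x : X.presheaf.obj U) => ?_))
  let ρ : X.presheaf.obj (op ⊤) →+* X.presheaf.obj U := (X.presheaf.map (homOfLE (le_top (a := U.unop))).op).hom
  let r' : X.presheaf.obj (op ⊤) := r
  show (ρ r' * x) ^ p - ρ r' * x + ρ r' * x = ρ (r' ^ p) * (x ^ p - x + x)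
  rw [sub_add_cancel, sub_add_cancel, map_pow, mul_pow]

theorem res_asEndo [EtZar.ZarCont X] :
    (EtZar.resZar X).map (W4c5etcohweilstudent.artinSchreierEndo X p hp.out h0) ≫ (EtZarLib.gaIso X).hom =
      (EtZarLib.gaIso X).hom ≫ (EtZarLib.up X).map (asZ p h0) := by
  refine ObjectProperty.hom_ext _ (NatTrans.ext (funext fun U => ConcreteCategory.hom_ext _ _ fun x => ULift.ext _ _ ?_))
  let y : Γ(Scheme.Opens.toScheme U.unop, ⊤) := x.down
  show (Scheme.Opens.topIso U.unop).hom.hom (y ^ p - y) =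
    ((Scheme.Opens.topIso U.unop).hom.hom y) ^ p - (Scheme.Opens.topIso U.unop).hom.hom y
  rw [map_sub, map_pow]

/-- Étale cohomology of `Ga` as coherent cohomology, compatibly with Artin–Schreier. -/
theorem exists_equiv_as [EtZar.ZarCont X] (q : ℕ) :
    ∃ e : EtCoh.H X (EtCoh.Ga X) q ≃+ Coh.HH X (Coh.structureModule X) q,
      ∀ x, e (Sheaf.H.map (W4c5etcohweilstudent.artinSchreierEndo X p hp.out h0) q x) = Sheaf.H.map (asZ p h0) q (e x) := by
  obtain ⟨e1, h1⟩ := EtZarLib.exists_H_equiv (X := X) q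
  obtain ⟨e2, h2⟩ := EtZarLib.exists_up_equiv (X := X) q
  let M := Coh.toAb (Coh.structureModule X)
  let γ := EtZarLib.gaIso X
  let ψ : EtZar.H ((EtZar.resZar X).obj (EtCoh.Ga X)) q ≃+ EtZar.H ((EtZarLib.up X).obj M) q :=
    { toFun := Sheaf.H.map γ.hom q
      invFun := Sheaf.H.map γ.inv q
      left_inv := fun x => by rw [← Sheaf.H.map_comp_apply, Iso.hom_inv_id, Sheaf.H.map_id_apply]
      right_inv := fun x => by rw [← Sheaf.H.map_comp_apply, Iso.inv_hom_id, Sheaf.H.map_id_apply]
      map_add' := map_add _ }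
  refine ⟨((e1 _ cechAcyclicA_Ga).trans ψ).trans (e2 M).symm, fun x => (e2 M).injective ?_⟩
  refine ((e2 M).apply_symm_apply (ψ (e1 _ cechAcyclicA_Ga (Sheaf.H.map _ q x)))).trans ?_
  refine Eq.trans ?_ (h2 M M (asZ p h0) ((e2 M).symm (ψ (e1 _ cechAcyclicA_Ga x)))).symm
  rw [AddEquiv.apply_symm_apply, h1 _ _ cechAcyclicA_Ga cechAcyclicA_Ga]
  show Sheaf.H.map γ.hom q (Sheaf.H.map _ q _) = Sheaf.H.map _ q (Sheaf.H.map γ.hom q _)
  rw [← Sheaf.H.map_comp_apply, ← Sheaf.H.map_comp_apply, res_asEndo]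

/-- On a proper scheme over a separably closed field Artin–Schreier is surjective in every degree. -/
theorem surjective_as {k : Type u} [Field k] [IsSepClosed k] [CharP k p] (f : X ⟶ Spec (CommRingCat.of k)) [IsProper f]
    (q : ℕ) : Function.Surjective (Sheaf.H.map (W4c5etcohweilstudent.artinSchreierEndo X p hp.out h0) q) := by
  haveI : EtZar.ZarCont X := EtZarLib.zarCont X
  obtain ⟨e, he⟩ := exists_equiv_as p h0 q
  letI : X.Over (Spec (CommRingCat.of k)) := ⟨f⟩
  haveI : IsProper (X ↘ Spec (CommRingCat.of k)) := ‹IsProper f›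
  let V := Coh.HH X (Coh.structureModule X) q
  haveI : Module.Finite k V := CurvLib.finite_HH (DevissLib.isCoh_structureModule X) q
  have hlin : ∀ (c : k) (v : V), Sheaf.H.map (frobZ p h0) q (c • v) = c ^ p • Sheaf.H.map (frobZ p h0) q v := fun c v => by
    show Sheaf.H.map (frobZ p h0) q (Sheaf.H.map (Coh.smulAb _ (Coh.toGlobal f c)) q v) =
      Sheaf.H.map (Coh.smulAb _ (Coh.toGlobal f (c ^ p))) q (Sheaf.H.map (frobZ p h0) q v)
    rw [map_pow, ← Sheaf.H.map_comp_apply, ← Sheaf.H.map_comp_apply, smul_frobZ]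
  intro y
  obtain ⟨v, hv⟩ := surjective_sub_self p (V := V) (Sheaf.H.map (frobZ p h0) q) hlin (e y)
  refine ⟨e.symm v, e.injective ?_⟩
  rw [he, AddEquiv.apply_symm_apply, ← hv]
  show _ = Sheaf.H.map (asZ p h0 + 𝟙 _) q v - v
  rw [Sheaf.H.map_add_apply, Sheaf.H.map_id_apply, add_sub_cancel_right]

end AsCohLib
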